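import Cfsg.Agent.Mrg.Omega.NOThreeL.RWide.ParT.EndA
import Cfsg.Agent.Mrg.Omega.NOThreeL.RWide.TFm
import Cfsg.Agent.Omega.NOThreeL.RWide.TWc
import Cfsg.Agent.Mrg.Omega.NOThreeL.RWide.PermNB
import Cfsg.Agent.Mrg.Omega.TC.No


/-!
# The passive case of PAR (helper801 #26892 (i), helper971 #27366)

`T = TT S N`, `O = O₂(C_G(Ω₁Z(T)))`, `P ∈ 𝒫(T)`, `P ≤ Y_j`.

* `line_cent` : an exact `A ≤ S ∩ N_G(N)` on a natural block `N` centralises its line;
* `TFm.toTf` : `Tf` from `TFm`;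
* `TFm.XF_le_O` : `⟨Ω₁Z(T)^(X_ij)⟩ ≤ Ω₁Z(O₂(X_ij)) ≤ O`; `TFm.cj_le_O` : `N_b^x ≤ O` for `x ∈ Y_j`;
* `TFm.root` : `A ∈ 𝒜(O)`, `A^x ≤ T`, `x ∈ Y_j` : `A^x` centralises all lines;
* **`TFm.passive`** : if all members of `𝒜(O)` lie in `O₂(P)` and `zJ`: `Ω₁(C_O(𝒜(O))) ≤ Z_J`, then `P` normalises `Z_J`;
  `TFm.passive_par` : then `P` normalises all blocks.
-/

set_option autoImplicit false
set_option linter.unusedSectionVars false

namespace Cfsg.Agent.Omega.NOThreeL.RWide.ParQ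

open Subgroup Cfsg Cfsg.Agent.Omega.MinPar
open Cfsg.Agent.ZN (zc o2)
open Cfsg.Agent.ZN.ChoiceBase (cj cj_mono cj_inf cj_centralizer cj_eq_of_mem_normalizer mem_cj mem_normalizer_iff_cj
  cj_cj_inv cj_inv_cj cj_cj cj_one mem_zc isPGroup_cj card_cj)
open Cfsg.Agent.MinSimple.MinParabolic (IsMinPar le_of_forall)
open Cfsg.Agent.MinSimple.VModule (zc_le normalizer_le_normalizer_zc le_centralizer_zc le_normalizer_o2 o2_isPGroup
  le_o2 o2_le o2_le_of_sylow)
open Cfsg.Agent.Omega.NoFF.Basic (comm_symm)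
open Cfsg.Agent.Omega.EDel.ThmU (XF XF_le sylow_of_two)
open Cfsg.Agent.Omega.NOThreeL.RWide.TBlk (NB Bls)
open Cfsg.Agent.Omega.NOThreeL.RWide.TAct (TT BB Tf OT)
open Cfsg.Agent.Omega.KL.TwoS (Mx relIndex_card)
open Cfsg.Agent.Omega.NOThreeL.RWide.SemiCnt (Sm semi_cnt)

universe u v

variable {G : Type u} [Group G]

section line

variable {S E N l A : Subgroup G} {F : Type} [Field F] [Finite F] [CharP F 2] {e : G → Fin 2 → F}

/-- coordinates as an equivalence -/
noncomputable def eqv (h : NB S E N l F e) : N ≃ (Fin 2 → F) :=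
  Equiv.ofBijective (fun v => e v) ⟨fun v w hvw => by
    apply Subtype.ext
    have h1 : e (v : G) = e (w : G) := hvw
    have h2 : e ((v : G) * (w : G)⁻¹) = 0 := by
      have h3 := h.mul _ (mul_mem v.2 (inv_mem w.2)) _ w.2
      rw [inv_mul_cancel_right] at h3
      rw [h3] at h1
      exact add_eq_right.1 h1
    exact mul_inv_eq_one.1 (h.inj _ (mul_mem v.2 (inv_mem w.2)) h2), fun x => by
    obtain ⟨v, hv, hx⟩ := h.sur x
    exact ⟨⟨v, hv⟩, hx⟩⟩

theorem eqv_apply (h : NB S E N l F e) (v : N) : eqv h v = e v := rfl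

theorem e_symm (h : NB S E N l F e) (x : Fin 2 → F) : e ((eqv h).symm x : G) = x := (eqv h).apply_symm_apply x

/-- conjugation on `N` -/
def cjN (hA : A ≤ normalizer (N : Set G)) (a : A) : N ≃ N where
  toFun v := ⟨a * v * (a : G)⁻¹, (mem_normalizer_iff.1 (hA a.2) v).1 v.2⟩
  invFun v := ⟨(a : G)⁻¹ * v * a, by
    have h1 := (mem_normalizer_iff.1 (hA (inv_mem a.2)) (v : G)).1 v.2
    rwa [inv_inv] at h1⟩
  left_inv v := Subtype.ext (by change (a : G)⁻¹ * (a * v * (a : G)⁻¹) * a = v; group)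
  right_inv v := Subtype.ext (by change (a : G) * ((a : G)⁻¹ * v * a) * (a : G)⁻¹ = v; group)

/-- the action of `A` on `F²` -/
noncomputable def rho (h : NB S E N l F e) (hA : A ≤ normalizer (N : Set G)) : A →* Equiv.Perm (Fin 2 → F) where
  toFun a := (eqv h).symm.trans ((cjN hA a).trans (eqv h))
  map_one' := by
    apply Equiv.ext
    intro x
    change eqv h (cjN hA 1 ((eqv h).symm x)) = x
    have h1 : cjN hA 1 ((eqv h).symm x) = (eqv h).symm x := Subtype.ext (by
      change ((1 : A) : G) * _ * ((1 : A) : G)⁻¹ = _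
      rw [OneMemClass.coe_one, one_mul, inv_one, mul_one])
    rw [h1, Equiv.apply_symm_apply]
  map_mul' a b := by
    apply Equiv.ext
    intro x
    change eqv h (cjN hA (a * b) ((eqv h).symm x)) = eqv h (cjN hA a ((eqv h).symm (eqv h (cjN hA b ((eqv h).symm x)))))
    rw [Equiv.symm_apply_apply]
    congr 1
    apply Subtype.ext
    change ((a * b : A) : G) * ((eqv h).symm x : G) * ((a * b : A) : G)⁻¹ =
      (a : G) * ((b : G) * ((eqv h).symm x : G) * (b : G)⁻¹) * (a : G)⁻¹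
    rw [Subgroup.coe_mul]
    group

theorem rho_apply (h : NB S E N l F e) (hA : A ≤ normalizer (N : Set G)) (a : A) (x : Fin 2 → F) :
    rho h hA a x = e ((a : G) * ((eqv h).symm x : G) * (a : G)⁻¹) := rfl

theorem rho_fix (h : NB S E N l F e) (hA : A ≤ normalizer (N : Set G)) (a : A) (x : Fin 2 → F) :
    rho h hA a x = x ↔ (a : G) * ((eqv h).symm x : G) * (a : G)⁻¹ = ((eqv h).symm x : G) := by
  constructor
  · intro h1
    have h2 : (eqv h) (cjN hA a ((eqv h).symm x)) = (eqv h) ((eqv h).symm x) := by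
      rw [Equiv.apply_symm_apply]; exact h1
    exact congrArg Subtype.val ((eqv h).injective h2)
  · intro h1
    rw [rho_apply, h1]
    exact e_symm h x

/-- **An exact group on a natural block centralises the line.** -/
theorem line_cent [Finite G] (h : NB S E N l F e) (hAS : A ≤ S) (hA : A ≤ normalizer (N : Set G))
    (h2 : ∀ a ∈ A, a ^ 2 ∈ centralizer (N : Set G))
    (hoff : (centralizer (A : Set G)).relIndex N ≤ (centralizer (N : Set G)).relIndex A) :
    A ≤ centralizer (l : Set G) := by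
  -- the kernel
  have hker : (rho h hA).ker = (centralizer (N : Set G)).subgroupOf A := by
    ext a
    rw [MonoidHom.mem_ker, mem_subgroupOf, mem_centralizer_iff]
    constructor
    · intro h1 v hv
      have h3 : rho h hA a (e v) = e v := by rw [h1]; rfl
      have h4 : ((eqv h).symm (e v) : G) = v := by
        have := (eqv h).symm_apply_apply ⟨v, hv⟩
        exact congrArg Subtype.val this
      have h5 := (rho_fix h hA a _).1 h3
      rw [h4] at h5
      calc v * a = (a * v * (a : G)⁻¹) * a := by rw [h5]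
        _ = a * v := by group
    · intro h1
      apply Equiv.ext
      intro x
      refine (rho_fix h hA a x).2 ?_
      rw [← h1 _ ((eqv h).symm x).2, mul_inv_cancel_right]
  have hr : Nat.card (rho h hA).range = (centralizer (N : Set G)).relIndex A := by
    rw [← Subgroup.index_ker, hker]; rfl
  -- the fixed points
  have hf : Nat.card {v : Fin 2 → F // ∀ g, rho h hA g v = v} =
      Nat.card (N ⊓ centralizer (A : Set G) : Subgroup G) := by
    refine (Nat.card_congr ?_).symm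
    refine
      { toFun := fun v => ⟨e v, fun g => ?_⟩
        invFun := fun x => ⟨((eqv h).symm x.1 : G), ((eqv h).symm x.1).2, ?_⟩
        left_inv := fun v => ?_
        right_inv := fun x => ?_ }
    · have h4 : ((eqv h).symm (e v) : G) = v := by
        have := (eqv h).symm_apply_apply ⟨v, v.2.1⟩
        exact congrArg Subtype.val this
      refine (rho_fix h hA g _).2 ?_
      rw [h4, mem_centralizer_iff.1 v.2.2 g g.2, mul_inv_cancel_right]
    · change _ ∈ centralizer (A : Set G)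
      rw [mem_centralizer_iff]
      intro a ha
      have h5 := (rho_fix h hA ⟨a, ha⟩ x.1).1 (x.2 ⟨a, ha⟩)
      calc a * _ = (a * ((eqv h).symm x.1 : G) * a⁻¹) * a := by group
        _ = _ := by rw [h5]
    · apply Subtype.ext
      have := (eqv h).symm_apply_apply ⟨v, v.2.1⟩
      exact congrArg (fun w : N => (w : G)) this
    · apply Subtype.ext
      exact e_symm h x.1
  have hN : Nat.card N = Nat.card F ^ 2 := by
    rw [Nat.card_congr (eqv h), Nat.card_fun, Nat.card_eq_fintype_card (α := Fin 2), Fintype.card_fin]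
  have hsm : ∀ g, ∃ σ a b d, Sm (rho h hA g) σ a b d := by
    intro g
    obtain ⟨σ, a, b, d, h1⟩ := h.semi g (hAS g.2) (hA g.2)
    refine ⟨σ, a, b, d, fun x => ?_⟩
    rw [rho_apply, h1 _ ((eqv h).symm x).2, show e ((eqv h).symm x : G) = x from e_symm h x]
  have hsq : ∀ g x, rho h hA g (rho h hA g x) = x := by
    intro g x
    have h1 : rho h hA (g * g) x = x := by
      refine (rho_fix h hA _ x).2 ?_
      have h3 := h2 g g.2
      rw [pow_two] at h3
      rw [Subgroup.coe_mul, ← mem_centralizer_iff.1 h3 _ ((eqv h).symm x).2, mul_inv_cancel_right]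
    rw [map_mul] at h1
    exact h1
  obtain ⟨h3, h4⟩ := semi_cnt (rho h hA) hsm hsq
  rw [hr, hf] at h3 h4
  have h5 := relIndex_card (A := N) (C := centralizer (A : Set G))
  rw [hN] at h5
  have h6 := h4 (le_antisymm h3 (by
    rw [h5, mul_comm]
    exact Nat.mul_le_mul_right _ hoff))
  intro a ha
  rw [mem_centralizer_iff]
  intro v hv
  obtain ⟨hvN, hv1⟩ := (h.line v).1 hv
  have h7 : e v = ![e v 0, 0] := by
    funext i
    fin_cases i
    · rfl
    · exact hv1
  have h8 : ((eqv h).symm (e v) : G) = v := by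
    have := (eqv h).symm_apply_apply ⟨v, hvN⟩
    exact congrArg Subtype.val this
  have h9 : rho h hA ⟨a, ha⟩ (e v) = e v := by rw [h7]; exact h6 _ _
  have h10 := (rho_fix h hA ⟨a, ha⟩ _).1 h9
  rw [h8] at h10
  calc v * a = (a * v * a⁻¹) * a := by rw [h10]
    _ = a * v := by group

end line

section tfm

variable {ι : Type v} [Finite G] {S : Sylow 2 G} {V : Subgroup G} {N l E : ι → Subgroup G}

theorem relIndex_cj' (g : G) (A B : Subgroup G) : (cj g A).relIndex (cj g B) = A.relIndex B :=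
  Subgroup.relIndex_map_map_of_injective _ _ (MulAut.conj g).injective

/-- `Tf` from `TFm` -/
theorem toTf [Finite ι] (h : TFm S V N l E) : Tf S V N l :=
  h.tf (fun g hg hgS => h.toBls.wc hg hgS) (fun x hx hxV b => TPerm.permX h.toBls hx hxV b)

variable [Finite ι] [Nonempty ι]

/-- `O₂(X_ij) ≤ T` -/
theorem oT (h : TFm S V N l E) (i j : ι) : o2 (XF (TAct.FF (S : Subgroup G) N l) i j) ≤ TT (S : Subgroup G) N :=
  TBits.oT_of (toTf h).T2 (fun i => (toTf h).hTF i) (toTf h).F_le_N h.EN h.EC h.ord (toTf h).NT (toTf h).ker i j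

theorem T_le_CZ (h : TFm S V N l E) :
    TT (S : Subgroup G) N ≤ centralizer (zc (TT (S : Subgroup G) N) : Set G) := le_centralizer_zc _

theorem CZ_le_XF (h : TFm S V N l E) (i j : ι) :
    centralizer (zc (TT (S : Subgroup G) N) : Set G) ≤ XF (TAct.FF (S : Subgroup G) N l) i j := by
  intro x hx
  rw [XF, mem_centralizer_iff]
  rintro y ⟨n, -, -, hy⟩
  exact mem_centralizer_iff.1 hx y ((toTf h).F_le n hy)

/-- `X_ij` has characteristic 2 -/
theorem char2_XF (h : TFm S V N l E) (hc : IsCharacteristicTwoType G) (three : ∀ i j : ι, ∃ k, k ≠ i ∧ k ≠ j)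
    (i j : ι) : XF (TAct.FF (S : Subgroup G) N l) i j ⊓ centralizer (o2 (XF (TAct.FF (S : Subgroup G) N l) i j) : Set G) ≤
      o2 (XF (TAct.FF (S : Subgroup G) N l) i j) := by
  set F := TAct.FF (S : Subgroup G) N l with hF
  have e : XF F i j = centralizer ((closure {x | ∃ n, n ≠ i ∧ n ≠ j ∧ x ∈ F n} : Subgroup G) : Set G) :=
    (centralizer_closure _).symm
  have hle : closure {x | ∃ n, n ≠ i ∧ n ≠ j ∧ x ∈ F n} ≤ TT (S : Subgroup G) N := by
    rw [closure_le]
    rintro _ ⟨n, -, -, hx⟩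
    exact zc_le _ ((toTf h).F_le n hx)
  rw [e]
  refine Cfsg.Agent.Omega.NOne.LemmaT.char2_centralizer hc ((toTf h).T2.to_le hle) ?_
  obtain ⟨m, hl1, hl2⟩ := three i j
  intro e1
  apply (toTf h).ne m
  rw [eq_bot_iff, ← e1]
  exact fun x hx => subset_closure ⟨m, hl1, hl2, hx⟩

/-- `⟨Ω₁Z(T)^(X_ij)⟩ ≤ Ω₁Z(O₂(X_ij))` -/
theorem XS_le_zc (h : TFm S V N l E) (hc : IsCharacteristicTwoType G) (three : ∀ i j : ι, ∃ k, k ≠ i ∧ k ≠ j)
    (i j : ι) : XS (zc (TT (S : Subgroup G) N)) (XF (TAct.FF (S : Subgroup G) N l) i j) ≤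
      zc (o2 (XF (TAct.FF (S : Subgroup G) N l) i j)) := by
  have h1 : zc (TT (S : Subgroup G) N) ≤ centralizer (o2 (XF (TAct.FF (S : Subgroup G) N l) i j) : Set G) :=
    comm_symm ((oT h i j).trans (T_le_CZ h))
  have h2 : zc (TT (S : Subgroup G) N) ≤ zc (o2 (XF (TAct.FF (S : Subgroup G) N l) i j)) := by
    intro x hx
    have h3 : x ∈ o2 (XF (TAct.FF (S : Subgroup G) N l) i j) :=
      char2_XF h hc three i j ⟨((zc_le _).trans ((T_le_CZ h).trans (CZ_le_XF h i j))) hx, h1 hx⟩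
    exact MinSimple.VModule.mem_zc.2 ⟨h3, fun y hy => mem_centralizer_iff.1 (h1 hx) y hy,
      MinSimple.VModule.zc_sq _ x hx⟩
  exact XS_le_of h2 ((MinSimple.VModule.le_normalizer_o2 _).trans (MinSimple.VModule.normalizer_le_normalizer_zc _))

/-- `⟨Ω₁Z(T)^(X_ij)⟩ ≤ O` -/
theorem XF_le_O (h : TFm S V N l E) (hc : IsCharacteristicTwoType G) (three : ∀ i j : ι, ∃ k, k ≠ i ∧ k ≠ j)
    (i j : ι) : XS (zc (TT (S : Subgroup G) N)) (XF (TAct.FF (S : Subgroup G) N l) i j) ≤ OT (TT (S : Subgroup G) N) := by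
  refine (XS_le_zc h hc three i j).trans ((zc_le _).trans ?_)
  exact le_o2 ((oT h i j).trans (T_le_CZ h)) (o2_isPGroup _) ((CZ_le_XF h i j).trans (le_normalizer_o2 _))

theorem YY_le_XF' (j i : ι) (F : ι → Subgroup G) : YY F j ≤ XF F i j := by
  rw [EDel.ThmU.XF_comm]
  exact centralizer_le fun _ ⟨n, h1, _, h3⟩ => ⟨n, h1, h3⟩

theorem YY_le_XF'' (j i : ι) (F : ι → Subgroup G) : YY F j ≤ XF F j i :=
  centralizer_le fun _ ⟨n, h1, _, h3⟩ => ⟨n, h1, h3⟩

/-- `N_b ≤ ⟨Ω₁Z(T)^(X_ij)⟩`, `b ∈ {i, j}` -/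
theorem N_le (h : TFm S V N l E) (b i j : ι) (hb : b = i ∨ b = j) :
    N b ≤ XS (zc (TT (S : Subgroup G) N)) (XF (TAct.FF (S : Subgroup G) N l) i j) := by
  have h1 : N b ≤ XS (TAct.FF (S : Subgroup G) N l b) (YY (TAct.FF (S : Subgroup G) N l) b) :=
    TBits.VX_of (toTf h).F_le_N h.EC b (h.irr b _ ((toTf h).F_le_N b) ((toTf h).ne b))
  have h2 : YY (TAct.FF (S : Subgroup G) N l) b ≤ XF (TAct.FF (S : Subgroup G) N l) i j := by
    rcases hb with rfl | rfl
    · exact YY_le_XF'' b j _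
    · exact YY_le_XF' b i _
  exact h1.trans (XS_le fun _ hr _ ha => conj_mem_XS (h2 hr) ((toTf h).F_le b ha))

/-- **`N_b^x ≤ ⟨Ω₁Z(T)^(X_ij)⟩`, `x ∈ Y_j`** -/
theorem cj_N_le (h : TFm S V N l E) {b i j : ι} (hb : b = i ∨ b = j) {x : G}
    (hx : x ∈ YY (TAct.FF (S : Subgroup G) N l) j) :
    cj x (N b) ≤ XS (zc (TT (S : Subgroup G) N)) (XF (TAct.FF (S : Subgroup G) N l) i j) := by
  have h1 := cj_mono x (N_le h b i j hb)
  rwa [cj_eq_of_mem_normalizer (le_normalizer_XS _ _ (YY_le_XF' j i _ hx))] at h1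

/-- **`N_b^x ≤ O`, `x ∈ Y_j`** -/
theorem cj_le_O (h : TFm S V N l E) (hc : IsCharacteristicTwoType G) (three : ∀ i j : ι, ∃ k, k ≠ i ∧ k ≠ j)
    {j : ι} {x : G} (hx : x ∈ YY (TAct.FF (S : Subgroup G) N l) j) (b : ι) :
    cj x (N b) ≤ OT (TT (S : Subgroup G) N) :=
  (cj_N_le h (Or.inl rfl) hx).trans (XF_le_O h hc three b j)

theorem sqN (h : TFm S V N l E) (b : ι) {v : G} (hv : v ∈ N b) : v ^ 2 = 1 := h.sq v ((toTf h).NV b hv)

/-- **`A ∈ 𝒜(O)`, `x ∈ Y_j`, `A^x ≤ T` : `A^x` centralises the lines** -/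
theorem root (h : TFm S V N l E) (hc : IsCharacteristicTwoType G) (three : ∀ i j : ι, ∃ k, k ≠ i ∧ k ≠ j)
    {j : ι} {x : G} (hx : x ∈ YY (TAct.FF (S : Subgroup G) N l) j) {A : Subgroup G}
    (hA : Mx (OT (TT (S : Subgroup G) N)) A) (hxA : cj x A ≤ TT (S : Subgroup G) N) (b : ι) :
    cj x A ≤ centralizer (l b : Set G) := by
  obtain ⟨F', _, _, _, e, he⟩ := h.nat b
  have hN : cj x A ≤ normalizer (N b : Set G) := hxA.trans (inf_le_right.trans (iInf_le _ b))
  refine line_cent he (hxA.trans inf_le_left) hN (fun a ha => ?_) ?_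
  · have h1 := hA.sq _ (mem_cj.1 ha)
    have h2 : a ^ 2 = 1 := by
      have e1 : a = x * (x⁻¹ * a * x) * x⁻¹ := by group
      rw [e1, conj_pow, h1, mul_one, mul_inv_cancel]
    rw [h2]; exact one_mem _
  · have h1 := hA.thom (N := cj x⁻¹ (N b)) (cj_le_O h hc three (inv_mem hx) b) (fun y hy => by
      have h2 := sqN h b (mem_cj.1 hy)
      rw [inv_inv] at h2
      have e1 : y = x⁻¹ * (x * y * x⁻¹) * x := by group
      have h3 : (x⁻¹ * (x * y * x⁻¹) * x⁻¹⁻¹) ^ 2 = 1 := by rw [conj_pow, h2, mul_one, mul_inv_cancel]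
      rw [inv_inv] at h3
      rwa [← e1] at h3)
    rw [← relIndex_cj' x, ← relIndex_cj' x (centralizer (cj x⁻¹ (N b) : Set G)), cj_centralizer, cj_centralizer,
      cj_cj_inv] at h1
    exact h1

/-- **The passive case**: all members of `𝒜(O)` lie in `O₂(P)`. -/
theorem passive (h : TFm S V N l E) (hc : IsCharacteristicTwoType G) (three : ∀ i j : ι, ∃ k, k ≠ i ∧ k ≠ j)
    (zJ : ∀ x ∈ OT (TT (S : Subgroup G) N), x ^ 2 = 1 →
      (∀ A, Mx (OT (TT (S : Subgroup G) N)) A → x ∈ centralizer (A : Set G)) → x ∈ ⨆ b, l b)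
    {j : ι} {P : Subgroup G} (hP : IsMinPar (TT (S : Subgroup G) N) P) (hPX : P ≤ YY (TAct.FF (S : Subgroup G) N l) j)
    (hJ : ∀ A, Mx (OT (TT (S : Subgroup G) N)) A → A ≤ o2 P) :
    P ≤ normalizer ((⨆ b, l b : Subgroup G) : Set G) := by
  have hO : o2 P ≤ TT (S : Subgroup G) N := o2_le_of_sylow (toTf h).T2 ((toTf h).syl_sub hP.le hPX)
  have key : ∀ p ∈ P, cj p⁻¹ (⨆ b, l b) ≤ ⨆ b, l b := by
    intro p hp
    have h0 : ∀ b, cj p⁻¹ (l b) ≤ ⨆ b, l b := by
      intro b y hy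
      have hy' : p * y * p⁻¹ ∈ l b := by
        have := mem_cj.1 hy
        rwa [inv_inv] at this
      have hyN : y ∈ cj p⁻¹ (N b) := cj_mono _ (h.lN b) hy
      refine zJ y (cj_le_O h hc three (inv_mem (hPX hp)) b hyN) ?_ fun A hA => ?_
      · have h2 := sqN h b (h.lN b hy')
        have e1 : p * y * p⁻¹ = p * y * p⁻¹ := rfl
        rw [conj_pow] at h2
        have h3 : y ^ 2 = p⁻¹ * (p * y ^ 2 * p⁻¹) * p := by group
        rw [h3, h2]; group
      · have h1 : cj p A ≤ TT (S : Subgroup G) N := by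
          have h2 := cj_mono p (hJ A hA)
          rw [cj_eq_of_mem_normalizer (le_normalizer_o2 P hp)] at h2
          exact h2.trans hO
        have h3 := root h hc three (hPX hp) hA h1 b
        rw [mem_centralizer_iff]
        intro a ha
        have h4 : p * a * p⁻¹ ∈ cj p A := mem_cj.2 (by
          have e1 : p⁻¹ * (p * a * p⁻¹) * p = a := by group
          rwa [e1])
        have h5 := mem_centralizer_iff.1 (h3 h4) _ hy'
        have e2 : a * y = p⁻¹ * ((p * a * p⁻¹) * (p * y * p⁻¹)) * p := by group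
        rw [e2, ← h5]; group
    rw [cj, Subgroup.map_iSup]
    exact iSup_le h0
  intro p hp
  refine Cfsg.Agent.ZN.ChoiceBase.mem_normalizer_of_cj_le ?_
  have h1 := key p⁻¹ (inv_mem hp)
  rwa [inv_inv] at h1

/-- **The passive case**: `P` normalises all blocks. -/
theorem passive_par (h : TFm S V N l E) (hc : IsCharacteristicTwoType G) (three : ∀ i j : ι, ∃ k, k ≠ i ∧ k ≠ j)
    (zJ : ∀ x ∈ OT (TT (S : Subgroup G) N), x ^ 2 = 1 →
      (∀ A, Mx (OT (TT (S : Subgroup G) N)) A → x ∈ centralizer (A : Set G)) → x ∈ ⨆ b, l b)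
    {j : ι} {P : Subgroup G} (hP : IsMinPar (TT (S : Subgroup G) N) P) (hPX : P ≤ YY (TAct.FF (S : Subgroup G) N l) j)
    (hJ : ∀ A, Mx (OT (TT (S : Subgroup G) N)) A → A ≤ o2 P)
    (hm : ¬ P ≤ centralizer (TAct.FF (S : Subgroup G) N l j : Set G)) (b : ι) : P ≤ normalizer (N b : Set G) :=
  (toTf h).norm_of_R hP hPX (passive h hc three zJ hP hPX hJ) hm b

end tfm

end Cfsg.Agent.Omega.NOThreeL.RWide.ParQ
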